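import Mathlib
import Groth.Prelude.Def_GLin
import Groth.Prelude.Def_HopfRep

/-!
# Strongly étale equivariant maps of affine `G`-schemes: points and orbits
-/

set_option autoImplicit false
set_option linter.unusedSectionVars false
set_option linter.unusedVariables false
set_option linter.unusedSimpArgs false
set_option linter.style.haveILetI false
set_option maxHeartbeats 400000

namespace Groth.Agent.Lib.Helper6.StrEt

open TensorProduct

universe u

section basic

variable {k : Type u} [Field k] {A : Type u} [CommRing A] [HopfAlgebra k A]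
  {S : Type u} [CommRing S] [Algebra k S] [HopfRep.Comod k A S] [GLin.IsCoactAlg k A S]
  {R : Type u} [CommRing R] [Algebra k R] [HopfRep.Comod k A R] [GLin.IsCoactAlg k A R]
  [Algebra S R] [IsScalarTower k S R]

theorem map_map_eq (x : R →ₐ[k] k) (z : S ⊗[k] A) :
    Algebra.TensorProduct.map x (AlgHom.id k A)
      (Algebra.TensorProduct.map (IsScalarTower.toAlgHom k S R) (AlgHom.id k A) z)
    = Algebra.TensorProduct.map (x.comp (IsScalarTower.toAlgHom k S R)) (AlgHom.id k A) z := by
  induction z using TensorProduct.induction_on with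
  | zero => simp
  | tmul s a => simp
  | add y z hy hz => rw [map_add, map_add, map_add, hy, hz]

theorem orbitHom_comp
    (hequiv : ∀ s : S, HopfRep.Comod.coact (k := k) (A := A) (algebraMap S R s) =
      Algebra.TensorProduct.map (IsScalarTower.toAlgHom k S R) (AlgHom.id k A)
        (HopfRep.Comod.coact (k := k) (A := A) s))
    (x : R →ₐ[k] k) (s : S) :
    GLin.orbitHom k A (x.comp (IsScalarTower.toAlgHom k S R)) s =
      GLin.orbitHom k A x (algebraMap S R s) := by
  unfold GLin.orbitHom
  simp only [AlgHom.comp_apply, GLin.coactAlgHom_apply]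
  rw [hequiv, map_map_eq]

theorem orbitHom_of_mem_invariants (x : R →ₐ[k] k) (f : R) (hf : f ∈ GLin.invariants k A R) :
    GLin.orbitHom k A x f = algebraMap k A (x f) := by
  have h : HopfRep.Comod.coact (k := k) (A := A) f = f ⊗ₜ[k] (1 : A) := hf
  unfold GLin.orbitHom
  simp only [AlgHom.comp_apply, GLin.coactAlgHom_apply]
  rw [h, Algebra.TensorProduct.map_tmul]
  simp [Algebra.algebraMap_eq_smul_one]

end basic

section main

variable (k : Type u) [Field k] (A : Type u) [CommRing A] [HopfAlgebra k A]
  (S : Type u) [CommRing S] [Algebra k S] [HopfRep.Comod k A S] [GLin.IsCoactAlg k A S]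
  (R : Type u) [CommRing R] [Algebra k R] [HopfRep.Comod k A R] [GLin.IsCoactAlg k A R]
  [Algebra S R] [IsScalarTower k S R]
  (hequiv : ∀ s : S, HopfRep.Comod.coact (k := k) (A := A) (algebraMap S R s) =
      Algebra.TensorProduct.map (IsScalarTower.toAlgHom k S R) (AlgHom.id k A)
        (HopfRep.Comod.coact (k := k) (A := A) s))
  (S₀ : Type u) [CommRing S₀] [Algebra k S₀] [Algebra S₀ S] [IsScalarTower k S₀ S]
  (R₀ : Type u) [CommRing R₀] [Algebra k R₀] [Algebra R₀ R] [IsScalarTower k R₀ R]
  (hR₀ : (IsScalarTower.toAlgHom k R₀ R).range = GLin.invariants k A R)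
  [Algebra S₀ R₀] [Algebra S₀ R] [IsScalarTower S₀ S R] [IsScalarTower S₀ R₀ R]
  (hcart : Function.Bijective (Algebra.TensorProduct.productMap
    (IsScalarTower.toAlgHom S₀ S R) (IsScalarTower.toAlgHom S₀ R₀ R)))

include hcart in
theorem etale_of_cart (het₀ : Algebra.Etale S₀ R₀) : Algebra.Etale S R := by
  let f : S ⊗[S₀] R₀ →ₐ[S] R :=
    Algebra.TensorProduct.productLeftAlgHom (Algebra.ofId S R) (IsScalarTower.toAlgHom S₀ R₀ R)
  have hf : ∀ z, f z = Algebra.TensorProduct.productMap
      (IsScalarTower.toAlgHom S₀ S R) (IsScalarTower.toAlgHom S₀ R₀ R) z := by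
    intro z
    induction z using TensorProduct.induction_on with
    | zero => simp
    | tmul s r => rfl
    | add y z hy hz => rw [map_add, map_add, hy, hz]
  have hbij : Function.Bijective f := by
    have : (f : S ⊗[S₀] R₀ → R) = Algebra.TensorProduct.productMap
      (IsScalarTower.toAlgHom S₀ S R) (IsScalarTower.toAlgHom S₀ R₀ R) := funext hf
    rw [this]; exact hcart
  exact Algebra.Etale.of_equiv (AlgEquiv.ofBijective f hbij)

include hR₀ in
theorem algebraMap_mem_invariants (r : R₀) : algebraMap R₀ R r ∈ GLin.invariants k A R := by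
  rw [← hR₀]
  exact ⟨r, rfl⟩

include hequiv hR₀ hcart in
theorem actPt_eq_of_fixes_image (x : R →ₐ[k] k) (g : A →ₐ[k] k)
    (hg : GLin.actPt k g (x.comp (IsScalarTower.toAlgHom k S R)) =
      x.comp (IsScalarTower.toAlgHom k S R)) :
    GLin.actPt k g x = x := by
  apply AlgHom.ext
  intro r
  obtain ⟨z, rfl⟩ := hcart.2 r
  induction z using TensorProduct.induction_on with
  | zero => simp
  | tmul s r₀ =>
    rw [Algebra.TensorProduct.productMap_apply_tmul, map_mul, map_mul]
    congr 1
    · have h1 := AlgHom.congr_fun hg s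
      show g (GLin.orbitHom k A x (algebraMap S R s)) = x (algebraMap S R s)
      rw [← orbitHom_comp hequiv x s]
      exact h1
    · show g (GLin.orbitHom k A x (algebraMap R₀ R r₀)) = x (algebraMap R₀ R r₀)
      rw [orbitHom_of_mem_invariants x _ (algebraMap_mem_invariants k A R R₀ hR₀ r₀), AlgHom.commutes]
      rfl
  | add y z hy hz => rw [map_add, map_add, map_add, hy, hz]

include hequiv hR₀ hcart in
theorem orbitHom_mem_range (x : R →ₐ[k] k) (r : R) :
    GLin.orbitHom k A x r ∈ (GLin.orbitHom k A (x.comp (IsScalarTower.toAlgHom k S R))).range := by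
  obtain ⟨z, rfl⟩ := hcart.2 r
  induction z using TensorProduct.induction_on with
  | zero => rw [map_zero, map_zero]; exact Subalgebra.zero_mem _
  | tmul s r₀ =>
    rw [Algebra.TensorProduct.productMap_apply_tmul, map_mul]
    refine Subalgebra.mul_mem _ ?_ ?_
    · exact ⟨s, orbitHom_comp hequiv x s⟩
    · show GLin.orbitHom k A x (algebraMap R₀ R r₀) ∈ _
      rw [orbitHom_of_mem_invariants x _ (algebraMap_mem_invariants k A R R₀ hR₀ r₀)]
      exact Subalgebra.algebraMap_mem _ _
  | add y z hy hz => rw [map_add, map_add]; exact Subalgebra.add_mem _ hy hz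

/-- closedness of the range of `Spec A → Spec R` only depends on the image subring. -/
theorem isClosed_range_comap_iff {R A : Type u} [CommRing R] [CommRing A] (o : R →+* A)
    (C : Subring A) (h : ∀ r, o r ∈ C) (hs : ∀ c ∈ C, ∃ r, o r = c) :
    IsClosed (Set.range (PrimeSpectrum.comap o)) ↔
      IsClosed (Set.range (PrimeSpectrum.comap C.subtype)) := by
  let oR : R →+* C := o.codRestrict C h
  have hsurj : Function.Surjective oR := by
    intro c
    obtain ⟨r, hr⟩ := hs c.1 c.2
    exact ⟨r, Subtype.ext hr⟩
  have hcomp : o = C.subtype.comp oR := by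
    ext r; rfl
  have hrange : Set.range (PrimeSpectrum.comap o) =
      PrimeSpectrum.comap oR '' Set.range (PrimeSpectrum.comap C.subtype) := by
    rw [hcomp, PrimeSpectrum.comap_comp, ← Set.range_comp]
  rw [hrange]
  exact ((PrimeSpectrum.isClosedEmbedding_comap_of_surjective C oR hsurj).isClosed_iff_image_isClosed).symm

include hequiv hR₀ hcart in
theorem isClosedOrbit_iff (x : R →ₐ[k] k) :
    GLin.IsClosedOrbit k A x ↔
      GLin.IsClosedOrbit k A (x.comp (IsScalarTower.toAlgHom k S R)) := by
  unfold GLin.IsClosedOrbit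
  let o' := GLin.orbitHom k A (x.comp (IsScalarTower.toAlgHom k S R))
  let C : Subring A := o'.range.toSubring
  rw [isClosed_range_comap_iff (GLin.orbitHom k A x).toRingHom C
      (fun r => orbitHom_mem_range k A S R hequiv S₀ R₀ hR₀ hcart x r)
      (fun c hc => by
        obtain ⟨s, hs⟩ := hc
        exact ⟨algebraMap S R s, (orbitHom_comp hequiv x s).symm.trans hs⟩),
    isClosed_range_comap_iff o'.toRingHom C (fun s => ⟨s, rfl⟩) (fun c hc => hc)]

end main

end Groth.Agent.Lib.Helper6.StrEt
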