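import Mathlib

/-!
# Invariants of a coaction commute with flat base change along invariants (abstract form)
-/

set_option autoImplicit false
set_option linter.unusedSectionVars false
set_option linter.unusedVariables false
set_option linter.unusedSimpArgs false
set_option linter.style.haveILetI false
set_option maxHeartbeats 400000

namespace Groth.Agent.Lib.Helper6.StrEt

open TensorProduct

universe u

section stage1

variable {k : Type u} [Field k] {A : Type u} [CommRing A] [Algebra k A]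
  {S₀ : Type u} [CommRing S₀] [Algebra k S₀]
  {Sb : Type u} [CommRing Sb] [Algebra k Sb] [Algebra S₀ Sb] [IsScalarTower k S₀ Sb]
  {R₀ : Type u} [CommRing R₀] [Algebra S₀ R₀]
  {T : Type u} [CommRing T] [Algebra k T] [Algebra S₀ T] [Algebra Sb T] [Algebra R₀ T]
  [IsScalarTower S₀ Sb T] [IsScalarTower S₀ R₀ T] [IsScalarTower k Sb T]

/-- the `S₀`-action on `Sb ⊗[k] A` is multiplication by `s₀ ⊗ 1`. -/
theorem smul_eq_tmul_mul (s₀ : S₀) (z : Sb ⊗[k] A) :
    s₀ • z = (algebraMap S₀ Sb s₀ ⊗ₜ[k] (1 : A)) * z := by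
  induction z using TensorProduct.induction_on with
  | zero => rw [smul_zero, mul_zero]
  | tmul s a =>
    rw [TensorProduct.smul_tmul', Algebra.TensorProduct.tmul_mul_tmul, one_mul, Algebra.smul_def]
  | add x y hx hy => rw [smul_add, mul_add, hx, hy]

/-- the defect of invariance, as an `S₀`-linear map. -/
noncomputable def dmap (ρS : Sb →ₐ[k] Sb ⊗[k] A)
    (hS₀ : ∀ s₀ : S₀, ρS (algebraMap S₀ Sb s₀) = algebraMap S₀ Sb s₀ ⊗ₜ[k] (1 : A)) :
    Sb →ₗ[S₀] Sb ⊗[k] A where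
  toFun s := ρS s - s ⊗ₜ[k] (1 : A)
  map_add' x y := by rw [map_add, TensorProduct.add_tmul]; abel
  map_smul' s₀ s := by
    rw [RingHom.id_apply, smul_sub, Algebra.smul_def, map_mul, hS₀, smul_eq_tmul_mul,
      smul_eq_tmul_mul, Algebra.TensorProduct.tmul_mul_tmul, one_mul]

theorem dmap_apply (ρS : Sb →ₐ[k] Sb ⊗[k] A)
    (hS₀ : ∀ s₀ : S₀, ρS (algebraMap S₀ Sb s₀) = algebraMap S₀ Sb s₀ ⊗ₜ[k] (1 : A)) (s : Sb) :
    dmap ρS hS₀ s = ρS s - s ⊗ₜ[k] (1 : A) := rfl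

variable (k A S₀ Sb R₀ T) in
/-- the canonical map `Sb ⊗[S₀] R₀ → T`. -/
noncomputable abbrev mu : Sb ⊗[S₀] R₀ →ₐ[S₀] T :=
  Algebra.TensorProduct.productMap (IsScalarTower.toAlgHom S₀ Sb T) (IsScalarTower.toAlgHom S₀ R₀ T)

variable (k S₀ Sb R₀ T) in
/-- `mu` as a `k`-linear map. -/
noncomputable def muk : Sb ⊗[S₀] R₀ →ₗ[k] T where
  toFun := mu S₀ Sb R₀ T
  map_add' := map_add _
  map_smul' c w := by
    rw [RingHom.id_apply]
    induction w using TensorProduct.induction_on with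
    | zero => rw [smul_zero, map_zero, smul_zero]
    | tmul s r =>
      rw [TensorProduct.smul_tmul', Algebra.TensorProduct.productMap_apply_tmul,
        Algebra.TensorProduct.productMap_apply_tmul, IsScalarTower.coe_toAlgHom',
        IsScalarTower.coe_toAlgHom', ← smul_mul_assoc]
      congr 1
      rw [Algebra.smul_def, Algebra.smul_def, map_mul, ← IsScalarTower.algebraMap_apply k Sb T]
    | add x y hx hy => rw [smul_add, map_add, map_add, hx, hy, smul_add]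

theorem muk_apply (w : Sb ⊗[S₀] R₀) : muk k S₀ Sb R₀ T w = mu S₀ Sb R₀ T w := rfl

variable (k A S₀ Sb R₀ T) in
/-- the comparison map `(Sb ⊗[k] A) ⊗[S₀] R₀ → T ⊗[k] A`. -/
noncomputable def Phi (z : (Sb ⊗[k] A) ⊗[S₀] R₀) : T ⊗[k] A :=
  (muk k S₀ Sb R₀ T).rTensor A
    ((TensorProduct.AlgebraTensorModule.rightComm k S₀ S₀ Sb R₀ A).symm z)

theorem Phi_add (z z' : (Sb ⊗[k] A) ⊗[S₀] R₀) :
    Phi k A S₀ Sb R₀ T (z + z') = Phi k A S₀ Sb R₀ T z + Phi k A S₀ Sb R₀ T z' := by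
  unfold Phi; rw [map_add, map_add]

theorem Phi_zero : Phi k A S₀ Sb R₀ T 0 = 0 := by
  unfold Phi; rw [map_zero, map_zero]

theorem Phi_tmul (z : Sb ⊗[k] A) (r : R₀) :
    Phi k A S₀ Sb R₀ T (z ⊗ₜ[S₀] r) =
      Algebra.TensorProduct.map (IsScalarTower.toAlgHom k Sb T) (AlgHom.id k A) z *
        (algebraMap R₀ T r ⊗ₜ[k] (1 : A)) := by
  induction z using TensorProduct.induction_on with
  | zero => rw [TensorProduct.zero_tmul, Phi_zero, map_zero, zero_mul]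
  | tmul s a =>
    unfold Phi
    rw [TensorProduct.AlgebraTensorModule.rightComm_symm_tmul, LinearMap.rTensor_tmul, muk_apply,
      Algebra.TensorProduct.productMap_apply_tmul, Algebra.TensorProduct.map_tmul,
      Algebra.TensorProduct.tmul_mul_tmul, mul_one]
    rfl
  | add x y hx hy => rw [TensorProduct.add_tmul, Phi_add, hx, hy, map_add, add_mul]

theorem Phi_injective (hμ : Function.Injective (mu S₀ Sb R₀ T)) :
    Function.Injective (Phi k A S₀ Sb R₀ T) := by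
  have h1 : Function.Injective ((muk k S₀ Sb R₀ T).rTensor A) :=
    Module.Flat.rTensor_preserves_injective_linearMap _ hμ
  exact h1.comp (LinearEquiv.injective _)

/-- key identity: `Phi ∘ (d ⊗ id) = (ρT - (· ⊗ 1)) ∘ mu`. -/
theorem Phi_dmap (ρS : Sb →ₐ[k] Sb ⊗[k] A) (ρT : T →ₐ[k] T ⊗[k] A)
    (hρ : ∀ s, ρT (algebraMap Sb T s) =
      Algebra.TensorProduct.map (IsScalarTower.toAlgHom k Sb T) (AlgHom.id k A) (ρS s))
    (hS₀ : ∀ s₀ : S₀, ρS (algebraMap S₀ Sb s₀) = algebraMap S₀ Sb s₀ ⊗ₜ[k] (1 : A))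
    (hR₀ : ∀ r₀ : R₀, ρT (algebraMap R₀ T r₀) = algebraMap R₀ T r₀ ⊗ₜ[k] (1 : A))
    (w : Sb ⊗[S₀] R₀) :
    Phi k A S₀ Sb R₀ T ((dmap ρS hS₀).rTensor R₀ w) =
      ρT (mu S₀ Sb R₀ T w) - mu S₀ Sb R₀ T w ⊗ₜ[k] (1 : A) := by
  induction w using TensorProduct.induction_on with
  | zero => rw [map_zero, Phi_zero, map_zero, map_zero, TensorProduct.zero_tmul, sub_zero]
  | tmul s r =>
    rw [LinearMap.rTensor_tmul, Phi_tmul, dmap_apply, map_sub, ← hρ,
      Algebra.TensorProduct.productMap_apply_tmul]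
    simp only [IsScalarTower.coe_toAlgHom']
    rw [map_mul, hR₀, sub_mul,
      Algebra.TensorProduct.map_tmul, Algebra.TensorProduct.tmul_mul_tmul, mul_one]
    rfl
  | add x y hx hy =>
    rw [map_add, Phi_add, hx, hy, map_add, map_add, TensorProduct.add_tmul]; abel

/-- **Stage 1**: an invariant element of `T` comes from `N ⊗ R₀` for any `N → Sb` exact with `d`. -/
theorem exists_of_invariant [Module.Flat S₀ R₀]
    (ρS : Sb →ₐ[k] Sb ⊗[k] A) (ρT : T →ₐ[k] T ⊗[k] A)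
    (hρ : ∀ s, ρT (algebraMap Sb T s) =
      Algebra.TensorProduct.map (IsScalarTower.toAlgHom k Sb T) (AlgHom.id k A) (ρS s))
    (hS₀ : ∀ s₀ : S₀, ρS (algebraMap S₀ Sb s₀) = algebraMap S₀ Sb s₀ ⊗ₜ[k] (1 : A))
    (hR₀ : ∀ r₀ : R₀, ρT (algebraMap R₀ T r₀) = algebraMap R₀ T r₀ ⊗ₜ[k] (1 : A))
    (hμ : Function.Bijective (mu S₀ Sb R₀ T))
    {N : Type u} [AddCommGroup N] [Module S₀ N] (f : N →ₗ[S₀] Sb)
    (hf : Function.Exact f (dmap ρS hS₀))
    (t : T) (ht : ρT t = t ⊗ₜ[k] (1 : A)) :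
    ∃ w : N ⊗[S₀] R₀, mu S₀ Sb R₀ T (f.rTensor R₀ w) = t := by
  obtain ⟨w₀, rfl⟩ := hμ.2 t
  have h1 : Phi k A S₀ Sb R₀ T ((dmap ρS hS₀).rTensor R₀ w₀) = 0 := by
    rw [Phi_dmap ρS ρT hρ hS₀ hR₀, ht, sub_self]
  have h2 : (dmap ρS hS₀).rTensor R₀ w₀ = 0 :=
    Phi_injective (k := k) (A := A) hμ.1 (h1.trans (Phi_zero (k := k) (A := A)).symm)
  have hex := Module.Flat.rTensor_exact R₀ hf
  obtain ⟨w, hw⟩ := (hex w₀).mp h2
  exact ⟨w, by rw [hw]⟩

end stage1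

end Groth.Agent.Lib.Helper6.StrEt
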