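import Mathlib
import Groth.Agent.Lib.Helper6.StrEt.SE2

/-!
# Invariants of a coaction commute with flat base change along invariants: algebra consequences
-/

set_option autoImplicit false
set_option linter.unusedSectionVars false
set_option linter.unusedVariables false
set_option linter.unusedSimpArgs false
set_option linter.style.haveILetI false
set_option maxHeartbeats 400000

namespace Groth.Agent.Lib.Helper6.StrEt

open TensorProduct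

universe u

section stage2

variable {k : Type u} [Field k] {A : Type u} [CommRing A] [Algebra k A]
  {S₀ : Type u} [CommRing S₀] [Algebra k S₀]
  {Sb : Type u} [CommRing Sb] [Algebra k Sb] [Algebra S₀ Sb] [IsScalarTower k S₀ Sb]
  {R₀ : Type u} [CommRing R₀] [Algebra S₀ R₀]
  {T : Type u} [CommRing T] [Algebra k T] [Algebra S₀ T] [Algebra Sb T] [Algebra R₀ T]
  [IsScalarTower S₀ Sb T] [IsScalarTower S₀ R₀ T] [IsScalarTower k Sb T]
  {S₁ : Type u} [CommRing S₁] [Algebra S₀ S₁] [Algebra S₁ Sb] [IsScalarTower S₀ S₁ Sb]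
  {R₁ : Type u} [CommRing R₁] [Algebra S₁ R₁] [Algebra R₁ T] [Algebra S₁ T]
  [IsScalarTower S₁ Sb T] [IsScalarTower S₁ R₁ T] [IsScalarTower S₀ S₁ T]

variable (S₀ R₀ T S₁) in
/-- the canonical map `S₁ ⊗[S₀] R₀ → T`. -/
noncomputable def nuT : S₁ ⊗[S₀] R₀ →ₐ[S₁] T :=
  Algebra.TensorProduct.productLeftAlgHom (Algebra.ofId S₁ T) (IsScalarTower.toAlgHom S₀ R₀ T)

theorem nuT_tmul (s₁ : S₁) (r : R₀) :
    nuT S₀ R₀ T S₁ (s₁ ⊗ₜ[S₀] r) = algebraMap S₁ T s₁ * algebraMap R₀ T r := rfl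

variable (S₀ Sb S₁) in
/-- `S₁ → Sb` as an `S₀`-linear map. -/
noncomputable def fS : S₁ →ₗ[S₀] Sb := (IsScalarTower.toAlgHom S₀ S₁ Sb).toLinearMap

theorem fS_apply (s₁ : S₁) : fS S₀ Sb S₁ s₁ = algebraMap S₁ Sb s₁ := rfl

theorem nuT_eq_mu (w : S₁ ⊗[S₀] R₀) :
    nuT S₀ R₀ T S₁ w = mu S₀ Sb R₀ T ((fS S₀ Sb S₁).rTensor R₀ w) := by
  induction w using TensorProduct.induction_on with
  | zero => rw [map_zero, map_zero, map_zero]
  | tmul s₁ r =>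
    rw [nuT_tmul, LinearMap.rTensor_tmul, fS_apply, Algebra.TensorProduct.productMap_apply_tmul]
    simp only [IsScalarTower.coe_toAlgHom']
    rw [← IsScalarTower.algebraMap_apply S₁ Sb T]
  | add x y hx hy => rw [map_add, map_add, map_add, hx, hy]

theorem nuT_injective [Module.Flat S₀ R₀] (hS₁i : Function.Injective (algebraMap S₁ Sb))
    (hμ : Function.Injective (mu S₀ Sb R₀ T)) :
    Function.Injective (nuT S₀ R₀ T S₁) := by
  have h1 : Function.Injective ((fS S₀ Sb S₁).rTensor R₀) :=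
    Module.Flat.rTensor_preserves_injective_linearMap _ hS₁i
  intro w w' h
  rw [nuT_eq_mu (Sb := Sb), nuT_eq_mu (Sb := Sb)] at h
  exact h1 (hμ h)

theorem exact_fS (ρS : Sb →ₐ[k] Sb ⊗[k] A)
    (hS₀ : ∀ s₀ : S₀, ρS (algebraMap S₀ Sb s₀) = algebraMap S₀ Sb s₀ ⊗ₜ[k] (1 : A))
    (hS₁ : ∀ s : Sb, ρS s = s ⊗ₜ[k] (1 : A) ↔ s ∈ Set.range (algebraMap S₁ Sb)) :
    Function.Exact (fS S₀ Sb S₁) (dmap ρS hS₀) := by
  intro s
  rw [dmap_apply, sub_eq_zero, hS₁]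
  rfl

theorem range_nuT [Module.Flat S₀ R₀]
    (ρS : Sb →ₐ[k] Sb ⊗[k] A) (ρT : T →ₐ[k] T ⊗[k] A)
    (hρ : ∀ s, ρT (algebraMap Sb T s) =
      Algebra.TensorProduct.map (IsScalarTower.toAlgHom k Sb T) (AlgHom.id k A) (ρS s))
    (hS₀ : ∀ s₀ : S₀, ρS (algebraMap S₀ Sb s₀) = algebraMap S₀ Sb s₀ ⊗ₜ[k] (1 : A))
    (hR₀ : ∀ r₀ : R₀, ρT (algebraMap R₀ T r₀) = algebraMap R₀ T r₀ ⊗ₜ[k] (1 : A))
    (hμ : Function.Bijective (mu S₀ Sb R₀ T))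
    (hS₁ : ∀ s : Sb, ρS s = s ⊗ₜ[k] (1 : A) ↔ s ∈ Set.range (algebraMap S₁ Sb))
    (hR₁ : ∀ t : T, ρT t = t ⊗ₜ[k] (1 : A) ↔ t ∈ Set.range (algebraMap R₁ T)) :
    (nuT S₀ R₀ T S₁).range = (IsScalarTower.toAlgHom S₁ R₁ T).range := by
  apply le_antisymm
  · rintro _ ⟨w, rfl⟩
    induction w using TensorProduct.induction_on with
    | zero => rw [map_zero]; exact Subalgebra.zero_mem _
    | tmul s₁ r =>
      show nuT S₀ R₀ T S₁ (s₁ ⊗ₜ[S₀] r) ∈ _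
      rw [nuT_tmul]
      refine Subalgebra.mul_mem _ ?_ ?_
      · exact ⟨algebraMap S₁ R₁ s₁, (IsScalarTower.algebraMap_apply S₁ R₁ T s₁).symm⟩
      · obtain ⟨r₁, hr₁⟩ := (hR₁ _).mp (hR₀ r)
        exact ⟨r₁, hr₁⟩
    | add x y hx hy =>
      have : (nuT S₀ R₀ T S₁).toRingHom (x + y) =
        (nuT S₀ R₀ T S₁).toRingHom x + (nuT S₀ R₀ T S₁).toRingHom y := map_add _ _ _
      rw [this]
      exact Subalgebra.add_mem _ hx hy
  · rintro _ ⟨r₁, rfl⟩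
    have hinv : ρT (algebraMap R₁ T r₁) = algebraMap R₁ T r₁ ⊗ₜ[k] (1 : A) :=
      (hR₁ _).mpr ⟨r₁, rfl⟩
    obtain ⟨w, hw⟩ := exists_of_invariant ρS ρT hρ hS₀ hR₀ hμ (fS S₀ Sb S₁)
      (exact_fS ρS hS₀ hS₁) _ hinv
    exact ⟨w, (nuT_eq_mu (Sb := Sb) w).trans hw⟩

/-- the algebra isomorphism `S₁ ⊗[S₀] R₀ ≃ R₁`. -/
theorem exists_equiv [Module.Flat S₀ R₀]
    (ρS : Sb →ₐ[k] Sb ⊗[k] A) (ρT : T →ₐ[k] T ⊗[k] A)
    (hρ : ∀ s, ρT (algebraMap Sb T s) =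
      Algebra.TensorProduct.map (IsScalarTower.toAlgHom k Sb T) (AlgHom.id k A) (ρS s))
    (hS₀ : ∀ s₀ : S₀, ρS (algebraMap S₀ Sb s₀) = algebraMap S₀ Sb s₀ ⊗ₜ[k] (1 : A))
    (hR₀ : ∀ r₀ : R₀, ρT (algebraMap R₀ T r₀) = algebraMap R₀ T r₀ ⊗ₜ[k] (1 : A))
    (hμ : Function.Bijective (mu S₀ Sb R₀ T))
    (hS₁i : Function.Injective (algebraMap S₁ Sb))
    (hS₁ : ∀ s : Sb, ρS s = s ⊗ₜ[k] (1 : A) ↔ s ∈ Set.range (algebraMap S₁ Sb))
    (hR₁i : Function.Injective (algebraMap R₁ T))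
    (hR₁ : ∀ t : T, ρT t = t ⊗ₜ[k] (1 : A) ↔ t ∈ Set.range (algebraMap R₁ T)) :
    ∃ e : S₁ ⊗[S₀] R₀ ≃ₐ[S₁] R₁, ∀ w, algebraMap R₁ T (e w) = nuT S₀ R₀ T S₁ w := by
  have hinj := nuT_injective (Sb := Sb) (R₀ := R₀) (T := T) hS₁i hμ.1
  have hrange := range_nuT (R₁ := R₁) ρS ρT hρ hS₀ hR₀ hμ hS₁ hR₁
  let g := IsScalarTower.toAlgHom S₁ R₁ T
  have hg : Function.Injective g := hR₁i
  let e₁ := AlgEquiv.ofInjective (nuT S₀ R₀ T S₁) hinj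
  let e₂ := AlgEquiv.ofInjective g hg
  let e := e₁.trans ((Subalgebra.equivOfEq _ _ hrange).trans e₂.symm)
  refine ⟨e, fun w => ?_⟩
  have h1 : g (e w) = ((e₂ (e w) : g.range) : T) := rfl
  show g (e w) = _
  rw [h1]
  show ((e₂ (e₂.symm ((Subalgebra.equivOfEq _ _ hrange) (e₁ w))) : g.range) : T) = _
  rw [AlgEquiv.apply_symm_apply]
  rfl

/-- **Stage 2**: `R₁` is étale over `S₁` and `Sb ⊗[S₁] R₁ → T` is bijective. -/
theorem stage2 [Algebra.Etale S₀ R₀]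
    (ρS : Sb →ₐ[k] Sb ⊗[k] A) (ρT : T →ₐ[k] T ⊗[k] A)
    (hρ : ∀ s, ρT (algebraMap Sb T s) =
      Algebra.TensorProduct.map (IsScalarTower.toAlgHom k Sb T) (AlgHom.id k A) (ρS s))
    (hS₀ : ∀ s₀ : S₀, ρS (algebraMap S₀ Sb s₀) = algebraMap S₀ Sb s₀ ⊗ₜ[k] (1 : A))
    (hR₀ : ∀ r₀ : R₀, ρT (algebraMap R₀ T r₀) = algebraMap R₀ T r₀ ⊗ₜ[k] (1 : A))
    (hμ : Function.Bijective (mu S₀ Sb R₀ T))
    (hS₁i : Function.Injective (algebraMap S₁ Sb))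
    (hS₁ : ∀ s : Sb, ρS s = s ⊗ₜ[k] (1 : A) ↔ s ∈ Set.range (algebraMap S₁ Sb))
    (hR₁i : Function.Injective (algebraMap R₁ T))
    (hR₁ : ∀ t : T, ρT t = t ⊗ₜ[k] (1 : A) ↔ t ∈ Set.range (algebraMap R₁ T)) :
    Algebra.Etale S₁ R₁ ∧
      Function.Bijective (Algebra.TensorProduct.productMap
        (IsScalarTower.toAlgHom S₁ Sb T) (IsScalarTower.toAlgHom S₁ R₁ T)) := by
  haveI : Module.Flat S₀ R₀ := inferInstance
  obtain ⟨e, he⟩ := exists_equiv (R₁ := R₁) ρS ρT hρ hS₀ hR₀ hμ hS₁i hS₁ hR₁i hR₁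
  refine ⟨Algebra.Etale.of_equiv e, ?_⟩
  let c := Algebra.TensorProduct.cancelBaseChange S₀ S₁ S₁ Sb R₀
  let E := Algebra.TensorProduct.congr (AlgEquiv.refl : Sb ≃ₐ[S₁] Sb) e
  have key : ∀ x : Sb ⊗[S₁] (S₁ ⊗[S₀] R₀),
      Algebra.TensorProduct.productMap (IsScalarTower.toAlgHom S₁ Sb T)
        (IsScalarTower.toAlgHom S₁ R₁ T) (E x) = mu S₀ Sb R₀ T (c x) := by
    intro x
    induction x using TensorProduct.induction_on with
    | zero => rw [map_zero, map_zero, map_zero, map_zero]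
    | tmul s w =>
      induction w using TensorProduct.induction_on with
      | zero => rw [TensorProduct.tmul_zero, map_zero, map_zero, map_zero, map_zero]
      | tmul s₁ r =>
        have hE : E (s ⊗ₜ[S₁] (s₁ ⊗ₜ[S₀] r)) = s ⊗ₜ[S₁] e (s₁ ⊗ₜ[S₀] r) := rfl
        have hc : c (s ⊗ₜ[S₁] (s₁ ⊗ₜ[S₀] r)) = (s₁ • s) ⊗ₜ[S₀] r :=
          Algebra.TensorProduct.cancelBaseChange_tmul S₀ S₁ S₁ Sb R₀ s s₁ r
        rw [hE, hc, Algebra.TensorProduct.productMap_apply_tmul,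
          Algebra.TensorProduct.productMap_apply_tmul]
        simp only [IsScalarTower.coe_toAlgHom']
        rw [he, nuT_tmul, Algebra.smul_def, map_mul, ← IsScalarTower.algebraMap_apply S₁ Sb T]
        ring
      | add y z hy hz => rw [TensorProduct.tmul_add, map_add, map_add, map_add, map_add, hy, hz]
    | add y z hy hz => rw [map_add, map_add, map_add, map_add, hy, hz]
  have hfun : (Algebra.TensorProduct.productMap (IsScalarTower.toAlgHom S₁ Sb T)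
      (IsScalarTower.toAlgHom S₁ R₁ T) : Sb ⊗[S₁] R₁ → T) =
      (mu S₀ Sb R₀ T ∘ c) ∘ E.symm := by
    funext y
    have := key (E.symm y)
    rw [AlgEquiv.apply_symm_apply] at this
    exact this
  rw [hfun]
  exact (hμ.comp c.bijective).comp E.symm.bijective

end stage2

end Groth.Agent.Lib.Helper6.StrEt
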