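import Mathlib
import Groth.Prelude.Def_GLin
import Groth.Prelude.Def_HopfRep
import Groth.Agent.Lib.Helper6.StrEt.SE3

/-!
# Strongly étale maps restrict to closed invariant subschemes
-/

set_option autoImplicit false
set_option linter.unusedSectionVars false
set_option linter.unusedVariables false
set_option linter.unusedSimpArgs false
set_option linter.style.haveILetI false
set_option maxHeartbeats 800000

namespace Groth.Agent.Lib.Helper6.StrEt

open TensorProduct

universe u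

section towers

variable {S R : Type u} [CommRing S] [CommRing R] [Algebra S R] (J : Ideal S)

theorem tower_quot (X : Type u) [CommSemiring X] [Algebra X S] [Algebra X R] [IsScalarTower X S R] :
    IsScalarTower X (S ⧸ J) (R ⧸ J.map (algebraMap S R)) :=
  IsScalarTower.of_algebraMap_eq (fun x => by
    show Ideal.Quotient.mk _ (algebraMap X R x) =
      Ideal.Quotient.mk _ (algebraMap S R (algebraMap X S x))
    rw [← IsScalarTower.algebraMap_apply])

attribute [local instance] tower_quot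

theorem mu_bijective_quot (S₀ R₀ : Type u) [CommRing S₀] [CommRing R₀] [Algebra S₀ S] [Algebra R₀ R]
    [Algebra S₀ R₀] [Algebra S₀ R] [IsScalarTower S₀ S R] [IsScalarTower S₀ R₀ R]
    (hcart : Function.Bijective (Algebra.TensorProduct.productMap
      (IsScalarTower.toAlgHom S₀ S R) (IsScalarTower.toAlgHom S₀ R₀ R))) :
    Function.Bijective (mu S₀ (S ⧸ J) R₀ (R ⧸ J.map (algebraMap S R))) := by
  let pmE : S ⊗[S₀] R₀ ≃+* R := RingEquiv.ofBijective
    (Algebra.TensorProduct.productMap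
      (IsScalarTower.toAlgHom S₀ S R) (IsScalarTower.toAlgHom S₀ R₀ R)) hcart
  let q₁ := Algebra.TensorProduct.quotientTensorEquiv (R := S₀) S₀ R₀ S J
  have hJ : J.map (algebraMap S R) =
      (J.map (algebraMap S (S ⊗[S₀] R₀))).map (pmE : S ⊗[S₀] R₀ →+* R) := by
    rw [Ideal.map_map]
    congr 1
    ext s
    show algebraMap S R s = pmE (algebraMap S (S ⊗[S₀] R₀) s)
    rw [Algebra.TensorProduct.algebraMap_apply]
    show _ = Algebra.TensorProduct.productMap
      (IsScalarTower.toAlgHom S₀ S R) (IsScalarTower.toAlgHom S₀ R₀ R) (algebraMap S S s ⊗ₜ 1)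
    rw [Algebra.TensorProduct.productMap_apply_tmul, map_one, mul_one]
    rfl
  let q₂ := Ideal.quotientEquiv _ _ pmE hJ
  have key : ∀ w, mu S₀ (S ⧸ J) R₀ (R ⧸ J.map (algebraMap S R)) w = q₂ (q₁ w) := by
    intro w
    induction w using TensorProduct.induction_on with
    | zero => rw [map_zero, map_zero, map_zero]
    | tmul sb r =>
      obtain ⟨s, rfl⟩ := Ideal.Quotient.mk_surjective sb
      have h1 : q₁ ((Ideal.Quotient.mk J s) ⊗ₜ[S₀] r) =
          Ideal.Quotient.mk _ (s ⊗ₜ[S₀] r) := rfl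
      rw [h1, Ideal.quotientEquiv_mk, Algebra.TensorProduct.productMap_apply_tmul]
      show _ = Ideal.Quotient.mk _ (Algebra.TensorProduct.productMap
        (IsScalarTower.toAlgHom S₀ S R) (IsScalarTower.toAlgHom S₀ R₀ R) (s ⊗ₜ r))
      rw [Algebra.TensorProduct.productMap_apply_tmul, map_mul]
      rfl
    | add x y hx hy => rw [map_add, map_add, map_add, hx, hy]
  have hfun : (mu S₀ (S ⧸ J) R₀ (R ⧸ J.map (algebraMap S R)) :
      (S ⧸ J) ⊗[S₀] R₀ → R ⧸ J.map (algebraMap S R)) = q₂ ∘ q₁ := funext key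
  rw [hfun]
  exact q₂.bijective.comp q₁.bijective

end towers

theorem exists_ringHom_of_range {S₀ S₁ Sb : Type u} [CommRing S₀] [CommRing S₁] [CommRing Sb]
    (f₀ : S₀ →+* Sb) (f₁ : S₁ →+* Sb) (hinj : Function.Injective f₁)
    (hmem : ∀ s₀, f₀ s₀ ∈ f₁.range) : ∃ j : S₀ →+* S₁, f₁.comp j = f₀ := by
  let e := RingEquiv.ofLeftInverse (Function.leftInverse_invFun hinj)
  refine ⟨e.symm.toRingHom.comp (f₀.codRestrict f₁.range hmem), ?_⟩
  ext s₀
  show f₁ (e.symm (f₀.codRestrict f₁.range hmem s₀)) = f₀ s₀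
  rw [← RingEquiv.ofLeftInverse_apply (Function.leftInverse_invFun hinj)]
  show ((e (e.symm (f₀.codRestrict f₁.range hmem s₀)) : f₁.range) : Sb) = f₀ s₀
  rw [RingEquiv.apply_symm_apply]
  rfl

section wrap

attribute [local instance] tower_quot

variable (k : Type u) [Field k] (A : Type u) [CommRing A] [HopfAlgebra k A]
  (S : Type u) [CommRing S] [Algebra k S] [HopfRep.Comod k A S] [GLin.IsCoactAlg k A S]
  (R : Type u) [CommRing R] [Algebra k R] [HopfRep.Comod k A R] [GLin.IsCoactAlg k A R]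
  [Algebra S R] [IsScalarTower k S R]

theorem main19408
    (hequiv : (∀ s : S, HopfRep.Comod.coact (k := k) (A := A) (algebraMap S R s) =
      Algebra.TensorProduct.map (IsScalarTower.toAlgHom k S R) (AlgHom.id k A) (HopfRep.Comod.coact (k := k) (A := A) s)))
    (S₀ : Type u) [CommRing S₀] [Algebra k S₀] [Algebra S₀ S] [IsScalarTower k S₀ S]
    (hS₀ : (IsScalarTower.toAlgHom k S₀ S).range = GLin.invariants k A S)
    (R₀ : Type u) [CommRing R₀] [Algebra k R₀] [Algebra R₀ R] [IsScalarTower k R₀ R]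
    (hR₀ : (IsScalarTower.toAlgHom k R₀ R).range = GLin.invariants k A R)
    [Algebra S₀ R₀] [Algebra S₀ R] [IsScalarTower S₀ S R] [IsScalarTower S₀ R₀ R]
    (het : Algebra.Etale S R) (het₀ : Algebra.Etale S₀ R₀)
    (hcart : Function.Bijective (Algebra.TensorProduct.productMap (IsScalarTower.toAlgHom S₀ S R) (IsScalarTower.toAlgHom S₀ R₀ R)))
    (J : Ideal S)
    [HopfRep.Comod k A (S ⧸ J)] [GLin.IsCoactAlg k A (S ⧸ J)]
    (hqS : (∀ s : S, HopfRep.Comod.coact (k := k) (A := A) ((Ideal.Quotient.mkₐ k J) s) =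
        Algebra.TensorProduct.map (Ideal.Quotient.mkₐ k J) (AlgHom.id k A) (HopfRep.Comod.coact (k := k) (A := A) s)))
    [HopfRep.Comod k A (R ⧸ J.map (algebraMap S R))] [GLin.IsCoactAlg k A (R ⧸ J.map (algebraMap S R))]
    (hqR : (∀ s : R, HopfRep.Comod.coact (k := k) (A := A) ((Ideal.Quotient.mkₐ k (J.map (algebraMap S R))) s) =
        Algebra.TensorProduct.map (Ideal.Quotient.mkₐ k (J.map (algebraMap S R))) (AlgHom.id k A) (HopfRep.Comod.coact (k := k) (A := A) s)))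
    (S₁ : Type u) [CommRing S₁] [Algebra k S₁] [Algebra S₁ (S ⧸ J)] [IsScalarTower k S₁ (S ⧸ J)]
    (hS₁i : Function.Injective (algebraMap S₁ (S ⧸ J)))
    (hS₁ : (IsScalarTower.toAlgHom k S₁ (S ⧸ J)).range = GLin.invariants k A (S ⧸ J))
    (R₁ : Type u) [CommRing R₁] [Algebra k R₁] [Algebra R₁ (R ⧸ J.map (algebraMap S R))] [IsScalarTower k R₁ (R ⧸ J.map (algebraMap S R))]
    (hR₁i : Function.Injective (algebraMap R₁ (R ⧸ J.map (algebraMap S R))))
    (hR₁ : (IsScalarTower.toAlgHom k R₁ (R ⧸ J.map (algebraMap S R))).range = GLin.invariants k A (R ⧸ J.map (algebraMap S R)))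
    [Algebra S₁ R₁] [Algebra S₁ (R ⧸ J.map (algebraMap S R))]
    [IsScalarTower S₁ (S ⧸ J) (R ⧸ J.map (algebraMap S R))] [IsScalarTower S₁ R₁ (R ⧸ J.map (algebraMap S R))] :
    Algebra.Etale (S ⧸ J) (R ⧸ J.map (algebraMap S R)) ∧ Algebra.Etale S₁ R₁ ∧
      Function.Bijective (Algebra.TensorProduct.productMap
        (IsScalarTower.toAlgHom S₁ (S ⧸ J) (R ⧸ J.map (algebraMap S R)))
        (IsScalarTower.toAlgHom S₁ R₁ (R ⧸ J.map (algebraMap S R)))) := by
  -- part 1
  have part1 : Algebra.Etale (S ⧸ J) (R ⧸ J.map (algebraMap S R)) := by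
    haveI := het
    exact Algebra.Etale.of_equiv (Algebra.TensorProduct.quotIdealMapEquivQuotTensor R J).symm
  -- invariance facts
  have hS₀' : ∀ s₀ : S₀, GLin.coactAlgHom k A (S ⧸ J) (algebraMap S₀ (S ⧸ J) s₀) =
      algebraMap S₀ (S ⧸ J) s₀ ⊗ₜ[k] (1 : A) := by
    intro s₀
    have hmem : algebraMap S₀ S s₀ ∈ GLin.invariants k A S := by
      rw [← hS₀]; exact ⟨s₀, rfl⟩
    have h1 : HopfRep.Comod.coact (k := k) (A := A) (algebraMap S₀ S s₀) =
        algebraMap S₀ S s₀ ⊗ₜ[k] (1 : A) := hmem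
    show HopfRep.Comod.coact (k := k) (A := A) ((Ideal.Quotient.mkₐ k J) (algebraMap S₀ S s₀)) = _
    rw [hqS, h1, Algebra.TensorProduct.map_tmul]
    rfl
  have hR₀' : ∀ r₀ : R₀, GLin.coactAlgHom k A (R ⧸ J.map (algebraMap S R))
      (algebraMap R₀ (R ⧸ J.map (algebraMap S R)) r₀) =
      algebraMap R₀ (R ⧸ J.map (algebraMap S R)) r₀ ⊗ₜ[k] (1 : A) := by
    intro r₀
    have hmem : algebraMap R₀ R r₀ ∈ GLin.invariants k A R := by
      rw [← hR₀]; exact ⟨r₀, rfl⟩
    have h1 : HopfRep.Comod.coact (k := k) (A := A) (algebraMap R₀ R r₀) =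
        algebraMap R₀ R r₀ ⊗ₜ[k] (1 : A) := hmem
    show HopfRep.Comod.coact (k := k) (A := A)
      ((Ideal.Quotient.mkₐ k (J.map (algebraMap S R))) (algebraMap R₀ R r₀)) = _
    rw [hqR, h1, Algebra.TensorProduct.map_tmul]
    rfl
  have hmm : ∀ z : S ⊗[k] A,
      Algebra.TensorProduct.map (Ideal.Quotient.mkₐ k (J.map (algebraMap S R))) (AlgHom.id k A)
        (Algebra.TensorProduct.map (IsScalarTower.toAlgHom k S R) (AlgHom.id k A) z) =
      Algebra.TensorProduct.map (IsScalarTower.toAlgHom k (S ⧸ J) (R ⧸ J.map (algebraMap S R)))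
        (AlgHom.id k A) (Algebra.TensorProduct.map (Ideal.Quotient.mkₐ k J) (AlgHom.id k A) z) := by
    intro z
    induction z using TensorProduct.induction_on with
    | zero => simp only [map_zero]
    | tmul s a => rfl
    | add x y hx hy => simp only [map_add, hx, hy]
  have hρ : ∀ s : S ⧸ J, GLin.coactAlgHom k A (R ⧸ J.map (algebraMap S R))
      (algebraMap (S ⧸ J) (R ⧸ J.map (algebraMap S R)) s) =
      Algebra.TensorProduct.map (IsScalarTower.toAlgHom k (S ⧸ J) (R ⧸ J.map (algebraMap S R)))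
        (AlgHom.id k A) (GLin.coactAlgHom k A (S ⧸ J) s) := by
    intro s
    obtain ⟨s', rfl⟩ := Ideal.Quotient.mk_surjective s
    show HopfRep.Comod.coact (k := k) (A := A)
      ((Ideal.Quotient.mkₐ k (J.map (algebraMap S R))) (algebraMap S R s')) =
      Algebra.TensorProduct.map (IsScalarTower.toAlgHom k (S ⧸ J) (R ⧸ J.map (algebraMap S R)))
        (AlgHom.id k A) (HopfRep.Comod.coact (k := k) (A := A) ((Ideal.Quotient.mkₐ k J) s'))
    rw [hqR, hequiv, hqS, hmm]
  have hμ := mu_bijective_quot J S₀ R₀ hcart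
  have hS₁' : ∀ s : S ⧸ J, GLin.coactAlgHom k A (S ⧸ J) s = s ⊗ₜ[k] (1 : A) ↔
      s ∈ Set.range (algebraMap S₁ (S ⧸ J)) := by
    intro s
    rw [GLin.coactAlgHom_apply, ← GLin.mem_invariants_iff, ← hS₁]
    rfl
  have hR₁' : ∀ t : R ⧸ J.map (algebraMap S R),
      GLin.coactAlgHom k A (R ⧸ J.map (algebraMap S R)) t = t ⊗ₜ[k] (1 : A) ↔
      t ∈ Set.range (algebraMap R₁ (R ⧸ J.map (algebraMap S R))) := by
    intro t
    rw [GLin.coactAlgHom_apply, ← GLin.mem_invariants_iff, ← hR₁]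
    rfl
  -- the algebra structure `S₀ → S₁`
  have hmem : ∀ s₀ : S₀, algebraMap S₀ (S ⧸ J) s₀ ∈ (algebraMap S₁ (S ⧸ J)).range := by
    intro s₀
    exact (hS₁' _).mp (hS₀' s₀)
  obtain ⟨j, hj⟩ := exists_ringHom_of_range (algebraMap S₀ (S ⧸ J)) (algebraMap S₁ (S ⧸ J)) hS₁i hmem
  letI : Algebra S₀ S₁ := j.toAlgebra
  haveI : IsScalarTower S₀ S₁ (S ⧸ J) :=
    IsScalarTower.of_algebraMap_eq (fun x => (RingHom.congr_fun hj x).symm)
  haveI : IsScalarTower S₀ S₁ (R ⧸ J.map (algebraMap S R)) :=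
    IsScalarTower.of_algebraMap_eq (fun x => by
      rw [IsScalarTower.algebraMap_apply S₁ (S ⧸ J) (R ⧸ J.map (algebraMap S R)),
        ← IsScalarTower.algebraMap_apply S₀ S₁ (S ⧸ J),
        ← IsScalarTower.algebraMap_apply S₀ (S ⧸ J) (R ⧸ J.map (algebraMap S R))])
  haveI : Algebra.Etale S₀ R₀ := het₀
  have h2 := stage2 (k := k) (A := A) (S₀ := S₀) (Sb := S ⧸ J) (R₀ := R₀)
    (T := R ⧸ J.map (algebraMap S R)) (S₁ := S₁) (R₁ := R₁)
    (GLin.coactAlgHom k A (S ⧸ J)) (GLin.coactAlgHom k A (R ⧸ J.map (algebraMap S R)))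
    hρ hS₀' hR₀' hμ hS₁i hS₁' hR₁i hR₁'
  exact ⟨part1, h2.1, h2.2⟩

end wrap

end Groth.Agent.Lib.Helper6.StrEt
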